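import Groth.Agent.FlatOpen.MapOpen
import Groth.Agent.FlatOpen.API
import Groth.Agent.FlatOpen.SliceSeq
import Mathlib.RingTheory.Regular.RegularSequence

/-!
# Openness of fibrewise regular sequences on flat modules

* `isOpen_fibreRegular`: for a flat fp module the primes where a sequence is regular on the fibre form an open set.
* `isWeaklyRegular_quot_iff`: weak regularity on a quotient of a localised module.
-/

universe u

open RingTheory.Sequence
open scoped Pointwise

namespace Groth.Agent.FibReg12

variable (R : Type u) {S : Type u} [CommRing R] [CommRing S] [Algebra R S]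
variable (M : Type u) [AddCommGroup M] [Module S M]

/-- One step: `a` is injective on `M / (K, l) M` locally at `P`. -/
def Step (K : Ideal S) (P : Ideal S) (l : List S) (a : S) : Prop :=
  ∀ m : M, a • m ∈ (K ⊔ Ideal.ofList l) • (⊤ : Submodule S M) →
    ∃ s ∉ P, s • m ∈ (K ⊔ Ideal.ofList l) • (⊤ : Submodule S M)

/-- `rs` is weakly regular on the fibre of `M` at `P`. -/
def FibReg (P : Ideal S) (rs : List S) : Prop :=
  ∀ (l₁ : List S) (h : S) (l₂ : List S), rs = l₁ ++ h :: l₂ →
    Step M ((P.comap (algebraMap R S)).map (algebraMap R S)) P l₁ h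

theorem fibReg_append_iff (P : Ideal S) (l : List S) (a : S) :
    FibReg R M P (l ++ [a]) ↔
      FibReg R M P l ∧ Step M ((P.comap (algebraMap R S)).map (algebraMap R S)) P l a := by
  refine ⟨fun h => ⟨fun l₁ b l₂ he => h l₁ b (l₂ ++ [a]) (by rw [he]; simp), h l a [] rfl⟩,
    fun h l₁ b l₂ he => ?_⟩
  rcases List.eq_nil_or_concat l₂ with rfl | ⟨l₃, c, rfl⟩
  · obtain ⟨rfl, hb⟩ := List.append_inj' he rfl
    obtain rfl : a = b := by simpa using hb
    exact h.2
  · refine h.1 l₁ b l₃ ?_
    have : l ++ [a] = (l₁ ++ b :: l₃) ++ [c] := by rw [he]; simp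
    exact (List.append_inj' this rfl).1

theorem mem_smul_mkQ_iff (J I : Ideal S) (m : M) :
    Submodule.Quotient.mk m ∈ J • (⊤ : Submodule S (M ⧸ I • (⊤ : Submodule S M))) ↔
      m ∈ (J ⊔ I) • (⊤ : Submodule S M) := by
  rw [← Submodule.range_mkQ (I • (⊤ : Submodule S M)), ← Submodule.map_top, ← Submodule.map_smul'',
    ← Submodule.mkQ_apply, ← Submodule.mem_comap, Submodule.comap_map_mkQ, Submodule.sup_smul, sup_comm]

variable [Algebra.FinitePresentation R S] [Module R M] [IsScalarTower R S M] [Module.FinitePresentation S M]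

/-- The successive quotients are flat. -/
theorem exists_isOpen (hflat : ∀ P : PrimeSpectrum S, FlatCA.FlatAt R P.asIdeal M) (rs : List S) :
    IsOpen {P : PrimeSpectrum S | FibReg R M P.asIdeal rs} ∧
      ∀ P : PrimeSpectrum S, FibReg R M P.asIdeal rs →
        FlatCA.FlatAt R P.asIdeal (M ⧸ Ideal.ofList rs • (⊤ : Submodule S M)) := by
  induction rs using List.reverseRecOn with
  | nil =>
    refine ⟨?_, fun P _ => ?_⟩
    · rw [show {P : PrimeSpectrum S | FibReg R M P.asIdeal []} = Set.univ from
        Set.eq_univ_of_forall fun P l₁ h l₂ he => absurd he (by simp)]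
      exact isOpen_univ
    · exact FlatOpen.flatAt_of_linearEquiv P.asIdeal
        (Submodule.quotEquivOfEqBot _ (by rw [Ideal.ofList_nil, Submodule.bot_smul])).symm (hflat P)
  | append_singleton l a ih =>
    let I := Ideal.ofList l
    let N := M ⧸ I • (⊤ : Submodule S M)
    let u : N →ₗ[S] N := a • LinearMap.id
    have : Module.FinitePresentation S N :=
      Module.finitePresentation_of_surjective (I • (⊤ : Submodule S M)).mkQ (Submodule.mkQ_surjective _)
        (by rw [Submodule.ker_mkQ]; exact Submodule.FG.smul (Submodule.fg_span l.finite_toSet) Module.Finite.fg_top)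
    have hiff : ∀ P : PrimeSpectrum S, FibReg R M P.asIdeal l →
        (Step M ((P.asIdeal.comap (algebraMap R S)).map (algebraMap R S)) P.asIdeal l a ↔
          FlatCA.FlatAt R P.asIdeal (N ⧸ LinearMap.range u) ∧
            ∀ m : N, u m = 0 → ∃ s ∉ P.asIdeal, s • m = 0) := by
      intro P hP
      constructor
      · intro hs
        refine FlatOpen.injective_coker_flat_of_fibEq R S u P.asIdeal (ih.2 P hP) fun m hm => ?_
        obtain ⟨m, rfl⟩ := Submodule.Quotient.mk_surjective _ m
        obtain ⟨s, hsP, hsm⟩ := hs m ((mem_smul_mkQ_iff M _ I (a • m)).1 hm)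
        exact ⟨s, hsP, (mem_smul_mkQ_iff M _ I (s • m)).2 hsm⟩
      · rintro ⟨h1, h2⟩ m hm
        obtain ⟨s, hsP, hsm⟩ := FlatOpen.fibEq_of_injective_coker_flat R S u P.asIdeal h1 h2
          (P.asIdeal.comap (algebraMap R S)) (Submodule.Quotient.mk m) ((mem_smul_mkQ_iff M _ I (a • m)).2 hm)
        exact ⟨s, hsP, (mem_smul_mkQ_iff M _ I (s • m)).1 hsm⟩
    refine ⟨?_, fun P hP => ?_⟩
    · rw [show {P : PrimeSpectrum S | FibReg R M P.asIdeal (l ++ [a])} =
          {P : PrimeSpectrum S | FibReg R M P.asIdeal l} ∩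
            {P : PrimeSpectrum S | FlatCA.FlatAt R P.asIdeal (N ⧸ LinearMap.range u) ∧
              ∀ m : N, u m = 0 → ∃ s ∉ P.asIdeal, s • m = 0} from Set.ext fun P =>
        (fibReg_append_iff R M P.asIdeal l a).trans (and_congr_right (hiff P))]
      exact ih.1.inter (FlatOpen.isOpen_injective_coker_flat R S u)
    · obtain ⟨hPl, hPa⟩ := (fibReg_append_iff R M P.asIdeal l a).1 hP
      have e₁ : LinearMap.range u =
          Submodule.map (I • (⊤ : Submodule S M)).mkQ (Ideal.span {a} • (⊤ : Submodule S M)) := by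
        rw [Submodule.map_smul'', Submodule.map_top, Submodule.range_mkQ,
          Submodule.ideal_span_singleton_smul]
        ext z
        simp [u, Submodule.mem_smul_pointwise_iff_exists]
      have e₂ : I • (⊤ : Submodule S M) ⊔ Ideal.span {a} • (⊤ : Submodule S M) =
          Ideal.ofList (l ++ [a]) • (⊤ : Submodule S M) := by
        rw [← Submodule.sup_smul, Ideal.ofList_append, Ideal.ofList_singleton]
      exact FlatOpen.flatAt_of_linearEquiv P.asIdeal ((Submodule.quotEquivOfEq _ _ e₁).trans
        ((Submodule.quotientQuotientEquivQuotientSup (I • (⊤ : Submodule S M))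
          (Ideal.span {a} • (⊤ : Submodule S M))).trans
          (Submodule.quotEquivOfEq _ _ e₂))) ((hiff P hPl).1 hPa).1

end Groth.Agent.FibReg12

namespace Groth.Agent.FibReg12

section Localized

variable {B C : Type u} [CommRing B] [CommRing C] [Algebra B C] (P : Ideal B) [P.IsPrime]
  [IsLocalization.AtPrime C P]
variable {M M' : Type u} [AddCommGroup M] [Module B M] [AddCommGroup M'] [Module B M'] [Module C M']
  [IsScalarTower B C M'] (f : M →ₗ[B] M') [IsLocalizedModule P.primeCompl f]

theorem map_mem_map_smul_top_iff (I : Ideal B) (m : M) :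
    f m ∈ I.map (algebraMap B C) • (⊤ : Submodule C M') ↔
      ∃ s ∉ P, s • m ∈ I • (⊤ : Submodule B M) := by
  rw [← Submodule.localized'_top C P.primeCompl f, ← Ideal.localized'_eq_map C P.primeCompl I,
    ← Submodule.localized'_smul C P.primeCompl f ⊤ I]
  constructor
  · rintro ⟨x, hx, s, h⟩
    obtain ⟨⟨c, hc⟩, hcm⟩ := IsLocalizedModule.exists_of_eq (S := P.primeCompl) (f := f)
      (show f x = f ((s : B) • m) by
        rw [map_smul, ← h]; exact (IsLocalizedModule.mk'_cancel' _ _ _).symm)
    refine ⟨c * s, P.primeCompl.mul_mem hc s.2, ?_⟩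
    rw [mul_smul]
    exact hcm ▸ Submodule.smul_mem _ c hx
  · rintro ⟨s, hs, h⟩
    exact ⟨s • m, h, ⟨s, hs⟩, IsLocalizedModule.mk'_eq_iff.2 (map_smul f s m)⟩

include f in
theorem isWeaklyRegular_quot_iff (K : Ideal B) (rs : List B) :
    IsWeaklyRegular (M' ⧸ K.map (algebraMap B C) • (⊤ : Submodule C M')) (rs.map (algebraMap B C)) ↔
      ∀ (l₁ : List B) (h : B) (l₂ : List B), rs = l₁ ++ h :: l₂ → Step M K P l₁ h := by
  have key : ∀ (l : List B) (z : M'),
      (Submodule.Quotient.mk z : M' ⧸ K.map (algebraMap B C) • (⊤ : Submodule C M')) ∈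
          Ideal.ofList (l.map (algebraMap B C)) •
            (⊤ : Submodule C (M' ⧸ K.map (algebraMap B C) • (⊤ : Submodule C M'))) ↔
        z ∈ (K ⊔ Ideal.ofList l).map (algebraMap B C) • (⊤ : Submodule C M') := by
    intro l z
    rw [mem_smul_mkQ_iff, ← Ideal.map_ofList, Ideal.map_sup, sup_comm]
  have step : ∀ (l : List B) (a : B),
      IsSMulRegular ((M' ⧸ K.map (algebraMap B C) • (⊤ : Submodule C M')) ⧸
        Ideal.ofList (l.map (algebraMap B C)) •
          (⊤ : Submodule C (M' ⧸ K.map (algebraMap B C) • (⊤ : Submodule C M')))) (algebraMap B C a) ↔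
        Step M K P l a := by
    intro l a
    rw [isSMulRegular_iff_right_eq_zero_of_smul]
    constructor
    · intro h m hm
      refine (map_mem_map_smul_top_iff P f _ m).1 ((key l (f m)).1 ?_)
      rw [← Submodule.Quotient.mk_eq_zero]
      refine h _ ?_
      rw [← Submodule.Quotient.mk_smul, ← Submodule.Quotient.mk_smul, Submodule.Quotient.mk_eq_zero,
        key, algebraMap_smul, ← map_smul]
      exact (map_mem_map_smul_top_iff P f _ _).2 ⟨1, P.primeCompl.one_mem, by rwa [one_smul]⟩
    · intro h z hz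
      obtain ⟨z, rfl⟩ := Submodule.Quotient.mk_surjective _ z
      obtain ⟨z, rfl⟩ := Submodule.Quotient.mk_surjective _ z
      rw [← Submodule.Quotient.mk_smul, ← Submodule.Quotient.mk_smul, Submodule.Quotient.mk_eq_zero,
        key] at hz
      rw [Submodule.Quotient.mk_eq_zero, key]
      obtain ⟨⟨m, s⟩, hs⟩ := IsLocalizedModule.surj P.primeCompl f z
      have hu := IsLocalization.map_units C s
      rw [← Submodule.smul_mem_iff_of_isUnit _ hu, algebraMap_smul]
      change (s : B) • z = f m at hs
      rw [hs]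
      have h1 : f (a • m) ∈ (K ⊔ Ideal.ofList l).map (algebraMap B C) • (⊤ : Submodule C M') := by
        rw [map_smul, ← hs, smul_comm, ← algebraMap_smul C (s : B)]
        exact Submodule.smul_mem _ _ (by rwa [algebraMap_smul] at hz)
      obtain ⟨t, ht, htm⟩ := (map_mem_map_smul_top_iff P f _ _).1 h1
      rw [smul_comm] at htm
      obtain ⟨r, hr, hrm⟩ := h (t • m) htm
      exact (map_mem_map_smul_top_iff P f _ _).2 ⟨r * t, P.primeCompl.mul_mem hr ht, by rwa [mul_smul]⟩
  rw [isWeaklyRegular_iff]
  constructor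
  · rintro h l₁ b l₂ rfl
    have := h l₁.length (by simp)
    rw [show List.take l₁.length (List.map (algebraMap B C) (l₁ ++ b :: l₂)) = l₁.map (algebraMap B C) by
      simp] at this
    exact (step l₁ b).1 (by simpa using this)
  · intro h i hi
    rw [List.length_map] at hi
    rw [List.getElem_map, ← List.map_take]
    exact (step _ _).2 (h _ _ (rs.drop (i + 1)) (by
      conv_lhs => rw [← List.take_append_drop i rs, List.drop_eq_getElem_cons hi]))

end Localized

end Groth.Agent.FibReg12
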